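import Mathlib.AlgebraicGeometry.OrderOfVanishing
import Mathlib.AlgebraicGeometry.Noetherian
import Mathlib.Topology.LocallyFinite

/-! Local finiteness of irreducible components and of the support of a principal divisor. -/

namespace Groth.Agent.CompLocFin

open AlgebraicGeometry TopologicalSpace Topology Set

universe u

lemma locallyFinite_irreducibleComponents (X : Scheme.{u}) [IsLocallyNoetherian X] (Z : Set X) :
    LocallyFinite (fun T : irreducibleComponents Z ↦ ((↑) '' (T.1 : Set Z) : Set X)) := by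
  intro x
  obtain ⟨_, ⟨U, hU, rfl⟩, hxU, -⟩ :=
    X.isBasis_affineOpens.exists_subset_of_mem_open (mem_univ x) isOpen_univ
  refine ⟨U, U.isOpen.mem_nhds hxU, ?_⟩
  have := IsLocallyNoetherian.component_noetherian (X := X) ⟨U, hU⟩
  have hUn : NoetherianSpace {y // y ∈ U} := noetherianSpace_of_isAffineOpen U hU
  let V : Set Z := Subtype.val ⁻¹' (U : Set X)
  have hV : IsOpenEmbedding (Subtype.val : V → Z) :=
    (U.isOpen.preimage continuous_subtype_val).isOpenEmbedding_subtypeVal
  have hVn : NoetherianSpace V := by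
    have he : Topology.IsInducing (fun v : V ↦ (⟨v.1.1, v.2⟩ : {y // y ∈ U})) := by
      refine Topology.IsInducing.of_comp (g := Subtype.val) (by fun_prop) continuous_subtype_val ?_
      have := (IsInducing.subtypeVal (t := Z)).comp (IsInducing.subtypeVal (t := V))
      exact this
    exact he.noetherianSpace
  have hne : ∀ T : irreducibleComponents Z, ((Subtype.val '' T.1 : Set X) ∩ U).Nonempty →
      (T.1 ∩ range (Subtype.val : V → Z)).Nonempty := by
    rintro T ⟨_, ⟨z, hz, rfl⟩, hzU⟩
    exact ⟨z, hz, ⟨z, hzU⟩, rfl⟩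
  refine Set.Finite.of_finite_image
    (f := fun T : irreducibleComponents Z ↦ (Subtype.val ⁻¹' T.1 : Set V))
    (NoetherianSpace.finite_irreducibleComponents.subset ?_) ?_
  · rintro _ ⟨T, hT, rfl⟩
    exact preimage_mem_irreducibleComponents T.2 hV (hne T hT)
  · intro T hT T' hT' h
    have key : ∀ T : irreducibleComponents Z, ((Subtype.val '' T.1 : Set X) ∩ U).Nonempty →
        closure ((Subtype.val : V → Z) '' (Subtype.val ⁻¹' T.1)) = T.1 := fun T hT ↦ by
      obtain ⟨z, hz, ⟨v, rfl⟩⟩ := hne T hT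
      exact closure_image_preimage_of_isPreirreducible _ hV.isOpenMap _ ⟨v, hz⟩ T.2.1.2
        (isClosed_of_mem_irreducibleComponents _ T.2)
    exact Subtype.ext (by rw [← key T hT, ← key T' hT']; exact congrArg _ (congrArg _ h))

lemma isMax_iff_eq_genericPoint (X : Scheme.{u}) [IrreducibleSpace X] (η : X) :
    IsMax η ↔ η = genericPoint X := by
  have hle : η ≤ genericPoint X := (genericPoint_spec X).specializes trivial
  constructor
  · intro h
    exact (Specializes.antisymm (show genericPoint X ⤳ η from hle)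
      (show η ⤳ genericPoint X from h hle)).eq.symm
  · rintro rfl y hy
    exact ((genericPoint_spec X).specializes trivial : genericPoint X ⤳ y)

lemma closure_mem_irreducibleComponents {X : Scheme.{u}} [IsIntegral X] {Z : Set X}
    (hZ : IsClosed Z) (hη : genericPoint X ∉ Z) {ξ : X} (hξ : Order.coheight ξ = 1) (hξZ : ξ ∈ Z) :
    (Subtype.val ⁻¹' closure {ξ} : Set Z) ∈ irreducibleComponents Z := by
  have hsub : closure {ξ} ⊆ Z := hZ.closure_subset_iff.mpr (singleton_subset_iff.mpr hξZ)
  have hc : (Subtype.val ⁻¹' closure {ξ} : Set Z) = closure {⟨ξ, hξZ⟩} := by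
    rw [IsInducing.subtypeVal.closure_eq_preimage_closure_image, image_singleton]
  refine ⟨hc ▸ isIrreducible_singleton.closure, fun S hS hle ↦ ?_⟩
  have hirr : IsIrreducible (closure (Subtype.val '' S : Set X)) :=
    (hS.image _ continuous_subtype_val.continuousOn).closure
  obtain ⟨η, hη'⟩ := QuasiSober.sober hirr isClosed_closure
  have hηZ : η ∈ Z :=
    hZ.closure_subset_iff.mpr (show Subtype.val '' S ⊆ Z from fun _ ⟨s, _, h⟩ ↦ h ▸ s.2) hη'.mem
  have hsp : η ⤳ ξ := hη'.specializes (subset_closure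
    ⟨⟨ξ, hξZ⟩, hle (subset_closure (mem_singleton ξ)), rfl⟩)
  have heq : η = ξ := by
    by_contra hne
    have hlt : ξ < η := lt_of_le_not_ge hsp fun h ↦ hne (Specializes.antisymm hsp h).eq
    have h1 := Order.coheight_add_one_le hlt
    rw [hξ] at h1
    have h0 : Order.coheight η = 0 := by
      exact nonpos_iff_eq_zero.mp
        ((WithTop.add_le_add_iff_right (ENat.one_ne_top)).mp (h1.trans_eq (zero_add 1).symm))
    exact hη ((isMax_iff_eq_genericPoint X η).mp (Order.coheight_eq_zero.mp h0) ▸ hηZ)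
  intro s hs
  have : (s : X) ∈ closure {η} := hη'.def.symm ▸ subset_closure ⟨s, hs, rfl⟩
  exact heq ▸ this

lemma locallyFinite_ord (X : Scheme.{u}) [IsIntegral X] [IsLocallyNoetherian X]
    (f : X.functionField) (hf : f ≠ 0) :
    LocallyFinite (fun ξ : {ξ : X // Order.coheight ξ = 1 ∧ Scheme.ord f ξ ≠ 0} ↦
      closure ({ξ.1} : Set X)) := by
  obtain ⟨U, -, f', hU, rfl, hu⟩ := exists_isUnit_germ_eq (X := X) f hf
  let Z : Set X := (U : Set X)ᶜ
  have hη : genericPoint X ∉ Z :=
    not_not.mpr (((genericPoint_spec X).mem_open_set_iff U.isOpen).mpr (by simpa using hU))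
  have hmem : ∀ ξ : {ξ : X // Order.coheight ξ = 1 ∧
      Scheme.ord (X.germToFunctionField U f') ξ ≠ 0}, ξ.1 ∈ Z :=
    fun ξ hξ ↦ ξ.2.2 (Scheme.ord_of_isUnit hu hξ)
  let g : {ξ : X // Order.coheight ξ = 1 ∧ Scheme.ord (X.germToFunctionField U f') ξ ≠ 0} →
      irreducibleComponents Z := fun ξ ↦
    ⟨_, closure_mem_irreducibleComponents U.isOpen.isClosed_compl hη ξ.2.1 (hmem ξ)⟩
  have hg : ∀ ξ, (Subtype.val '' (g ξ).1 : Set X) = closure {ξ.1} := fun ξ ↦ by
    refine image_preimage_eq_of_subset ?_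
    rw [Subtype.range_coe]
    exact U.isOpen.isClosed_compl.closure_subset_iff.mpr (singleton_subset_iff.mpr (hmem ξ))
  have hinj : Function.Injective g := fun ξ ξ' h ↦ by
    have : closure {ξ.1} = closure {ξ'.1} := by rw [← hg, ← hg, h]
    exact Subtype.ext (inseparable_iff_closure_eq.mpr this).eq
  convert (locallyFinite_irreducibleComponents X Z).comp_injective hinj using 1
  exact funext fun ξ ↦ (hg ξ).symm

end Groth.Agent.CompLocFin
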